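import Mathlib

/-!
# Quadratic forms given by matrices and hyperbolic systems (helper6)

`Qf c x = xᵀ c x`, its polar form `Bf c`, base change along ring homomorphisms, hyperbolic
systems of vectors, the orthogonal projection onto the complement of a hyperbolic system, the
algebra of splitting off one more hyperbolic pair, and the final change of coordinates.
-/

set_option autoImplicit false
set_option linter.unusedSectionVars false
set_option linter.unusedVariables false
set_option linter.unusedSimpArgs false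
set_option linter.style.haveILetI false
set_option maxHeartbeats 800000
set_option synthInstance.maxHeartbeats 400000

universe u v w

namespace Groth.Agent.Lib.Helper6.QSplit

open Matrix

section Forms

variable {R : Type u} [CommRing R] {ι : Type w} [Fintype ι] [DecidableEq ι]

/-- the quadratic form `x ↦ xᵀ c x`. -/
def Qf (c : Matrix ι ι R) (x : ι → R) : R := x ⬝ᵥ (c *ᵥ x)

/-- its polar form. -/
def Bf (c : Matrix ι ι R) (x y : ι → R) : R := x ⬝ᵥ (c *ᵥ y) + y ⬝ᵥ (c *ᵥ x)

variable (c : Matrix ι ι R)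

lemma Qf_add (x y : ι → R) : Qf c (x + y) = Qf c x + Qf c y + Bf c x y := by
  simp only [Qf, Bf, Matrix.mulVec_add, dotProduct_add, add_dotProduct]; ring

lemma Qf_smul (s : R) (x : ι → R) : Qf c (s • x) = s * s * Qf c x := by
  simp only [Qf, Matrix.mulVec_smul, dotProduct_smul, smul_dotProduct, smul_eq_mul]; ring

lemma Qf_zero : Qf c 0 = 0 := by simp [Qf]

lemma Bf_comm (x y : ι → R) : Bf c x y = Bf c y x := by
  simp only [Bf]; ring

lemma Bf_add_left (x x' y : ι → R) : Bf c (x + x') y = Bf c x y + Bf c x' y := by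
  simp only [Bf, Matrix.mulVec_add, dotProduct_add, add_dotProduct]; ring

lemma Bf_smul_left (s : R) (x y : ι → R) : Bf c (s • x) y = s * Bf c x y := by
  simp only [Bf, Matrix.mulVec_smul, dotProduct_smul, smul_dotProduct, smul_eq_mul]; ring

lemma Bf_add_right (x y y' : ι → R) : Bf c x (y + y') = Bf c x y + Bf c x y' := by
  rw [Bf_comm, Bf_add_left, Bf_comm c y x, Bf_comm c y' x]

lemma Bf_smul_right (s : R) (x y : ι → R) : Bf c x (s • y) = s * Bf c x y := by
  rw [Bf_comm, Bf_smul_left, Bf_comm]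

lemma Bf_zero_left (y : ι → R) : Bf c 0 y = 0 := by simp [Bf]

lemma Bf_zero_right (x : ι → R) : Bf c x 0 = 0 := by simp [Bf]

lemma Bf_neg_left (x y : ι → R) : Bf c (-x) y = -Bf c x y := by
  have := Bf_smul_left c (-1) x y
  simpa using this

lemma Bf_sub_left (x x' y : ι → R) : Bf c (x - x') y = Bf c x y - Bf c x' y := by
  rw [sub_eq_add_neg, Bf_add_left, Bf_neg_left, ← sub_eq_add_neg]

lemma Bf_sub_right (x y y' : ι → R) : Bf c x (y - y') = Bf c x y - Bf c x y' := by
  rw [Bf_comm, Bf_sub_left, Bf_comm c y x, Bf_comm c y' x]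

lemma Bf_self (x : ι → R) : Bf c x x = 2 * Qf c x := by
  simp only [Bf, Qf]; ring

lemma Bf_sum_left {κ : Type*} (s : Finset κ) (f : κ → ι → R) (y : ι → R) :
    Bf c (∑ i ∈ s, f i) y = ∑ i ∈ s, Bf c (f i) y := by
  classical
  induction s using Finset.induction_on with
  | empty => simp [Bf_zero_left]
  | insert a s ha ih => rw [Finset.sum_insert ha, Finset.sum_insert ha, Bf_add_left, ih]

lemma Bf_sum_right {κ : Type*} (s : Finset κ) (x : ι → R) (f : κ → ι → R) :
    Bf c x (∑ i ∈ s, f i) = ∑ i ∈ s, Bf c x (f i) := by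
  rw [Bf_comm, Bf_sum_left]
  exact Finset.sum_congr rfl fun i _ => Bf_comm c _ _

lemma Bf_eq_dot (x y : ι → R) : Bf c x y = x ⬝ᵥ ((c + cᵀ) *ᵥ y) := by
  rw [Bf, Matrix.add_mulVec, dotProduct_add, Matrix.mulVec_transpose,
    Matrix.dotProduct_mulVec y c x, dotProduct_comm (y ᵥ* c) x]

/-- the discriminant of the plane spanned by `x`, `y`. -/
def Df (x y : ι → R) : R := Bf c x y ^ 2 - 4 * Qf c x * Qf c y

lemma Df_comm (x y : ι → R) : Df c x y = Df c y x := by
  rw [Df, Df, Bf_comm]; ring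

lemma Df_add_left (x y : ι → R) : Df c (x + y) y = Df c x y := by
  rw [Df, Df, Bf_add_left, Qf_add, Bf_self]; ring

/-- orthogonal additivity. -/
lemma Qf_sum_of_orth {κ : Type*} (s : Finset κ) (v : κ → ι → R)
    (h : ∀ i ∈ s, ∀ j ∈ s, i ≠ j → Bf c (v i) (v j) = 0) :
    Qf c (∑ i ∈ s, v i) = ∑ i ∈ s, Qf c (v i) := by
  classical
  induction s using Finset.induction_on with
  | empty => simp [Qf_zero]
  | insert a s ha ih =>
    rw [Finset.sum_insert ha, Finset.sum_insert ha, Qf_add, ih, Bf_sum_right]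
    · have : ∑ i ∈ s, Bf c (v a) (v i) = 0 := by
        apply Finset.sum_eq_zero
        intro i hi
        exact h a (Finset.mem_insert_self a s) i (Finset.mem_insert_of_mem hi)
          (fun e => ha (e ▸ hi))
      rw [this, add_zero]
    · intro i hi j hj hij
      exact h i (Finset.mem_insert_of_mem hi) j (Finset.mem_insert_of_mem hj) hij

section Map

variable {R' : Type v} [CommRing R'] (φ : R →+* R')

lemma dot_map (x y : ι → R) : (φ ∘ x) ⬝ᵥ ((c.map φ) *ᵥ (φ ∘ y)) = φ (x ⬝ᵥ (c *ᵥ y)) := by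
  simp only [dotProduct, Matrix.mulVec, Function.comp_apply, Matrix.map_apply, map_sum, map_mul]

lemma Qf_map (x : ι → R) : Qf (c.map φ) (φ ∘ x) = φ (Qf c x) := by
  rw [Qf, Qf, dot_map]

lemma Bf_map (x y : ι → R) : Bf (c.map φ) (φ ∘ x) (φ ∘ y) = φ (Bf c x y) := by
  rw [Bf, Bf, dot_map, dot_map, map_add]

lemma Df_map (x y : ι → R) : Df (c.map φ) (φ ∘ x) (φ ∘ y) = φ (Df c x y) := by
  rw [Df, Df, Bf_map, Qf_map, Qf_map]
  simp only [map_sub, map_pow, map_mul, map_ofNat]

lemma comp_add (x y : ι → R) : φ ∘ (x + y) = φ ∘ x + φ ∘ y := by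
  funext t; simp

lemma comp_smul (s : R) (x : ι → R) : φ ∘ (s • x) = φ s • (φ ∘ x) := by
  funext t; simp

lemma polar_det_map : ((c.map φ) + (c.map φ)ᵀ).det = φ ((c + cᵀ).det) := by
  rw [RingHom.map_det]
  congr 1
  ext i j
  simp

end Map

end Forms

section HypSec

variable {R : Type u} [CommRing R] {ι : Type w} [Fintype ι] [DecidableEq ι]

/-- a hyperbolic system indexed by `κ`. -/
structure Hyp (c : Matrix ι ι R) (κ : Type) [DecidableEq κ] where
  e : κ → ι → R
  f : κ → ι → R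
  Qe : ∀ i, Qf c (e i) = 0
  Qff : ∀ i, Qf c (f i) = 0
  ee : ∀ i j, Bf c (e i) (e j) = 0
  ff : ∀ i j, Bf c (f i) (f j) = 0
  ef : ∀ i j, Bf c (e i) (f j) = if i = j then 1 else 0

namespace Hyp

variable {c : Matrix ι ι R} {κ : Type} [DecidableEq κ]

lemma fe (H : Hyp c κ) (i j : κ) : Bf c (H.f i) (H.e j) = if i = j then 1 else 0 := by
  rw [Bf_comm, H.ef]
  by_cases h : i = j
  · simp [h]
  · have : ¬ j = i := fun e => h e.symm
    simp [h, this]

/-- base change. -/
def map {R' : Type v} [CommRing R'] (φ : R →+* R') (H : Hyp c κ) : Hyp (c.map φ) κ where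
  e i := φ ∘ H.e i
  f i := φ ∘ H.f i
  Qe i := by rw [Qf_map, H.Qe, map_zero]
  Qff i := by rw [Qf_map, H.Qff, map_zero]
  ee i j := by rw [Bf_map, H.ee, map_zero]
  ff i j := by rw [Bf_map, H.ff, map_zero]
  ef i j := by
    rw [Bf_map, H.ef]
    split_ifs <;> simp

/-- reindexing. -/
def reindex {κ' : Type} [DecidableEq κ'] (σ : κ' ≃ κ) (H : Hyp c κ) : Hyp c κ' where
  e i := H.e (σ i)
  f i := H.f (σ i)
  Qe i := H.Qe _
  Qff i := H.Qff _
  ee i j := H.ee _ _
  ff i j := H.ff _ _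
  ef i j := by
    rw [H.ef]
    by_cases h : i = j
    · simp [h]
    · have : ¬ σ i = σ j := fun e => h (σ.injective e)
      simp [h, this]

/-- transport along an equality of matrices. -/
def congr {c' : Matrix ι ι R} (h : c = c') (H : Hyp c κ) : Hyp c' κ := h ▸ H

/-- the empty system. -/
def empty (c : Matrix ι ι R) : Hyp c (Fin 0) where
  e i := i.elim0
  f i := i.elim0
  Qe i := i.elim0
  Qff i := i.elim0
  ee i := i.elim0
  ff i := i.elim0
  ef i := i.elim0

/-- adjoining one more hyperbolic pair. -/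
def ext1 (H : Hyp c κ) (e' f' : ι → R) (he : Qf c e' = 0) (hf : Qf c f' = 0)
    (hef : Bf c e' f' = 1) (h1 : ∀ i, Bf c e' (H.e i) = 0) (h2 : ∀ i, Bf c e' (H.f i) = 0)
    (h3 : ∀ i, Bf c f' (H.e i) = 0) (h4 : ∀ i, Bf c f' (H.f i) = 0) : Hyp c (Option κ) where
  e o := o.elim e' H.e
  f o := o.elim f' H.f
  Qe := by
    rintro (_ | i)
    · exact he
    · exact H.Qe i
  Qff := by
    rintro (_ | i)
    · exact hf
    · exact H.Qff i
  ee := by
    rintro (_ | i) (_ | j)
    · show Bf c e' e' = 0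
      rw [Bf_self, he, mul_zero]
    · exact h1 j
    · show Bf c (H.e i) e' = 0
      rw [Bf_comm]; exact h1 i
    · exact H.ee i j
  ff := by
    rintro (_ | i) (_ | j)
    · show Bf c f' f' = 0
      rw [Bf_self, hf, mul_zero]
    · exact h4 j
    · show Bf c (H.f i) f' = 0
      rw [Bf_comm]; exact h4 i
    · exact H.ff i j
  ef := by
    rintro (_ | i) (_ | j)
    · show Bf c e' f' = _
      rw [hef]; simp
    · show Bf c e' (H.f j) = _
      rw [h2 j]; simp
    · show Bf c (H.e i) f' = _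
      rw [Bf_comm, h3 i]; simp
    · show Bf c (H.e i) (H.f j) = _
      rw [H.ef]
      by_cases h : i = j
      · simp [h]
      · simp [h]

variable [Fintype κ]

/-- the orthogonal projection onto the complement of the system. -/
def proj (H : Hyp c κ) (v : ι → R) : ι → R :=
  v - ∑ i, (Bf c v (H.f i) • H.e i + Bf c v (H.e i) • H.f i)

lemma proj_e (H : Hyp c κ) (v : ι → R) (j : κ) : Bf c (H.proj v) (H.e j) = 0 := by
  rw [proj, Bf_sub_left, Bf_sum_left]
  simp only [Bf_add_left, Bf_smul_left, H.ee, mul_zero, zero_add, H.fe, mul_ite, mul_one,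
    Finset.sum_ite_eq', Finset.mem_univ, if_true, sub_self]

lemma proj_f (H : Hyp c κ) (v : ι → R) (j : κ) : Bf c (H.proj v) (H.f j) = 0 := by
  rw [proj, Bf_sub_left, Bf_sum_left]
  simp only [Bf_add_left, Bf_smul_left, H.ff, mul_zero, add_zero, H.ef, mul_ite, mul_one,
    Finset.sum_ite_eq', Finset.mem_univ, if_true, sub_self]

lemma proj_add (H : Hyp c κ) (v w : ι → R) : H.proj (v + w) = H.proj v + H.proj w := by
  simp only [proj, Bf_add_left, add_smul, Finset.sum_add_distrib]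
  abel

lemma proj_smul (H : Hyp c κ) (s : R) (v : ι → R) : H.proj (s • v) = s • H.proj v := by
  simp only [proj, Bf_smul_left, mul_smul, smul_sub, Finset.smul_sum, smul_add]

lemma proj_sub (H : Hyp c κ) (v w : ι → R) : H.proj (v - w) = H.proj v - H.proj w := by
  have h1 : v - w = v + (-1 : R) • w := by simp [sub_eq_add_neg]
  rw [h1, proj_add, proj_smul]
  simp [sub_eq_add_neg]

lemma Bf_proj_right (H : Hyp c κ) (u y : ι → R) (h1 : ∀ i, Bf c u (H.e i) = 0)
    (h2 : ∀ i, Bf c u (H.f i) = 0) : Bf c u (H.proj y) = Bf c u y := by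
  rw [proj, Bf_sub_right, Bf_sum_right]
  simp only [Bf_add_right, Bf_smul_right, h1, h2, mul_zero, add_zero, Finset.sum_const_zero,
    sub_zero]

lemma eq_proj_add (H : Hyp c κ) (v : ι → R) :
    v = H.proj v + ∑ i, (Bf c v (H.f i) • H.e i + Bf c v (H.e i) • H.f i) := by
  rw [proj, sub_add_cancel]

lemma proj_map {R' : Type v} [CommRing R'] (φ : R →+* R') (H : Hyp c κ) (v : ι → R) :
    (H.map φ).proj (φ ∘ v) = φ ∘ H.proj v := by
  funext t
  simp only [proj, map, Bf_map, Pi.sub_apply, Finset.sum_apply, Pi.add_apply, Pi.smul_apply,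
    Function.comp_apply, smul_eq_mul, map_sub, map_sum, map_add, map_mul]

end Hyp

end HypSec

section Algebra

variable {R : Type u} [CommRing R] {ι : Type w} [Fintype ι] [DecidableEq ι]

/-- splitting off a hyperbolic pair from a plane with a root of its quadratic. -/
lemma exists_pair (c : Matrix ι ι R) (x y : ι → R) (z u' : R)
    (hz : Qf c x * z ^ 2 + Bf c x y * z + Qf c y = 0)
    (hu : u' * (2 * Qf c x * z + Bf c x y) = 1) :
    ∃ (s₁ s₂ t₁ t₂ : R), Qf c (s₁ • x + s₂ • y) = 0 ∧ Qf c (t₁ • x + t₂ • y) = 0 ∧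
      Bf c (s₁ • x + s₂ • y) (t₁ • x + t₂ • y) = 1 := by
  obtain ⟨a, ha⟩ : ∃ a, a = Qf c x := ⟨_, rfl⟩
  obtain ⟨b, hb⟩ : ∃ b, b = Bf c x y := ⟨_, rfl⟩
  obtain ⟨g, hg⟩ : ∃ g, g = Qf c y := ⟨_, rfl⟩
  rw [← ha, ← hb, ← hg] at hz
  rw [← ha, ← hb] at hu
  have hQ : ∀ s t : R, Qf c (s • x + t • y) = s * s * a + t * t * g + s * t * b := by
    intro s t
    rw [Qf_add, Qf_smul, Qf_smul, Bf_smul_left, Bf_smul_right, ha, hb, hg]; ring
  have hB : ∀ s t s' t' : R, Bf c (s • x + t • y) (s' • x + t' • y) =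
      2 * s * s' * a + 2 * t * t' * g + (s * t' + t * s') * b := by
    intro s t s' t'
    rw [Bf_add_left, Bf_add_right, Bf_add_right, Bf_smul_left, Bf_smul_left, Bf_smul_left,
      Bf_smul_left, Bf_smul_right, Bf_smul_right, Bf_smul_right, Bf_smul_right, Bf_self, Bf_self,
      Bf_comm c y x, ha, hb, hg]
    ring
  refine ⟨z, 1, u' - u' * u' * a * z, -(u' * u' * a), ?_, ?_, ?_⟩
  · rw [hQ]; linear_combination hz
  · rw [hQ]
    linear_combination (u' ^ 4 * a ^ 2) * hz + (-(u' ^ 2 * a)) * hu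
  · rw [hB]
    linear_combination (-(2 * u' * u' * a)) * hz + hu

end Algebra

section Final

variable {R : Type u} [CommRing R] {m : ℕ}

/-- the matrix with columns `e_j`, `f_j`. -/
def gMat (c : Matrix (Fin m ⊕ Fin m) (Fin m ⊕ Fin m) R) (H : Hyp c (Fin m)) :
    Matrix (Fin m ⊕ Fin m) (Fin m ⊕ Fin m) R :=
  Matrix.of fun t a => Sum.elim (fun j => H.e j t) (fun j => H.f j t) a

/-- a left inverse of `gMat`. -/
def gInv (c : Matrix (Fin m ⊕ Fin m) (Fin m ⊕ Fin m) R) (H : Hyp c (Fin m)) :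
    Matrix (Fin m ⊕ Fin m) (Fin m ⊕ Fin m) R :=
  Matrix.of fun a t => Sum.elim (fun j => ((c + cᵀ) *ᵥ H.f j) t) (fun j => ((c + cᵀ) *ᵥ H.e j) t) a

lemma gInv_mul_gMat (c : Matrix (Fin m ⊕ Fin m) (Fin m ⊕ Fin m) R) (H : Hyp c (Fin m)) :
    gInv c H * gMat c H = 1 := by
  ext a b
  rw [Matrix.mul_apply]
  rcases a with i | i <;> rcases b with j | j
  · have : ∑ t, gInv c H (Sum.inl i) t * gMat c H t (Sum.inl j) = Bf c (H.e j) (H.f i) := by
      rw [Bf_eq_dot, dotProduct]
      apply Finset.sum_congr rfl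
      intro t _
      simp [gInv, gMat, mul_comm]
    rw [this, H.ef, Matrix.one_apply]
    by_cases h : i = j
    · subst h; simp
    · have : ¬ j = i := fun e => h e.symm
      simp [h, this]
  · have : ∑ t, gInv c H (Sum.inl i) t * gMat c H t (Sum.inr j) = Bf c (H.f j) (H.f i) := by
      rw [Bf_eq_dot, dotProduct]
      apply Finset.sum_congr rfl
      intro t _
      simp [gInv, gMat, mul_comm]
    rw [this, H.ff]
    simp
  · have : ∑ t, gInv c H (Sum.inr i) t * gMat c H t (Sum.inl j) = Bf c (H.e j) (H.e i) := by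
      rw [Bf_eq_dot, dotProduct]
      apply Finset.sum_congr rfl
      intro t _
      simp [gInv, gMat, mul_comm]
    rw [this, H.ee]
    simp
  · have : ∑ t, gInv c H (Sum.inr i) t * gMat c H t (Sum.inr j) = Bf c (H.f j) (H.e i) := by
      rw [Bf_eq_dot, dotProduct]
      apply Finset.sum_congr rfl
      intro t _
      simp [gInv, gMat, mul_comm]
    rw [this, H.fe, Matrix.one_apply]
    by_cases h : i = j
    · subst h; simp
    · have : ¬ j = i := fun e => h e.symm
      simp [h, this]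

lemma isUnit_det_gMat (c : Matrix (Fin m ⊕ Fin m) (Fin m ⊕ Fin m) R) (H : Hyp c (Fin m)) :
    IsUnit (gMat c H).det :=
  Matrix.isUnit_det_of_left_inverse (gInv_mul_gMat c H)

lemma gMat_mulVec (c : Matrix (Fin m ⊕ Fin m) (Fin m ⊕ Fin m) R) (H : Hyp c (Fin m))
    (x : Fin m ⊕ Fin m → R) :
    gMat c H *ᵥ x = ∑ j : Fin m, (x (Sum.inl j) • H.e j + x (Sum.inr j) • H.f j) := by
  funext t
  rw [Matrix.mulVec, dotProduct, Fintype.sum_sum_type, Finset.sum_apply, ← Finset.sum_add_distrib]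
  apply Finset.sum_congr rfl
  intro j _
  simp [gMat, mul_comm]

theorem Qf_gMat (c : Matrix (Fin m ⊕ Fin m) (Fin m ⊕ Fin m) R) (H : Hyp c (Fin m))
    (x : Fin m ⊕ Fin m → R) :
    Qf c (gMat c H *ᵥ x) = ∑ j : Fin m, x (Sum.inl j) * x (Sum.inr j) := by
  rw [gMat_mulVec, Qf_sum_of_orth]
  · apply Finset.sum_congr rfl
    intro j _
    rw [Qf_add, Qf_smul, Qf_smul, Bf_smul_left, Bf_smul_right, H.Qe, H.Qff, H.ef]
    simp
  · intro i _ j _ hij
    have hji : ¬ j = i := fun e => hij e.symm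
    rw [Bf_add_left, Bf_add_right, Bf_add_right, Bf_smul_left, Bf_smul_left, Bf_smul_left,
      Bf_smul_left, Bf_smul_right, Bf_smul_right, Bf_smul_right, Bf_smul_right, H.ee, H.ff, H.ef,
      H.fe]
    simp [hij]

end Final

end Groth.Agent.Lib.Helper6.QSplit
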