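import Mathlib
import Groth.Agent.Lib.Helper6.QSplit.QS1

/-!
# A regular plane in the complement of a hyperbolic system, over a domain (helper6)
-/

set_option autoImplicit false
set_option linter.unusedSectionVars false
set_option linter.unusedVariables false
set_option linter.unusedSimpArgs false
set_option linter.style.haveILetI false
set_option maxHeartbeats 800000
set_option synthInstance.maxHeartbeats 400000

universe u v w

namespace Groth.Agent.Lib.Helper6.QSplit

open Matrix

section Domain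

variable {R : Type u} [CommRing R] [IsDomain R] {ι : Type w} [Fintype ι] [DecidableEq ι]
  (c : Matrix ι ι R) (hc : (c + cᵀ).det ≠ 0) {κ : Type} [Fintype κ] [DecidableEq κ] (H : Hyp c κ)

include hc in
lemma exists_Bf_ne_zero (u : ι → R) (hu : u ≠ 0) : ∃ y, Bf c u y ≠ 0 := by
  by_contra hcon
  push Not at hcon
  apply hu
  have h1 : u ᵥ* (c + cᵀ) = 0 := by
    funext t
    have := hcon (Pi.single t 1)
    rw [Bf_eq_dot, Matrix.dotProduct_mulVec] at this
    simpa using this
  exact Matrix.eq_zero_of_vecMul_eq_zero hc h1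

lemma exists_not_mem_line (hκ : 2 * Fintype.card κ + 2 ≤ Fintype.card ι)
    (u₀ : ι → FractionRing R) :
    ∃ x : ι → R, ∀ t : FractionRing R,
      (algebraMap R (FractionRing R)) ∘ H.proj x ≠ t • u₀ := by
  classical
  by_contra hcon
  push Not at hcon
  obtain ⟨ψ, hψ⟩ : ∃ ψ : R →+* FractionRing R, ψ = algebraMap R (FractionRing R) := ⟨_, rfl⟩
  rw [← hψ] at hcon
  obtain ⟨S, hS⟩ : ∃ S : Finset (ι → FractionRing R),
      S = (Finset.univ.image fun i => ψ ∘ H.e i) ∪ (Finset.univ.image fun i => ψ ∘ H.f i) ∪ {u₀} :=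
    ⟨_, rfl⟩
  have hcard : S.card ≤ 2 * Fintype.card κ + 1 := by
    have h1 : S.card ≤ ((Finset.univ.image fun i => ψ ∘ H.e i) ∪
        (Finset.univ.image fun i => ψ ∘ H.f i)).card + ({u₀} : Finset (ι → FractionRing R)).card := by
      rw [hS]; exact Finset.card_union_le _ _
    have h2 : ((Finset.univ.image fun i => ψ ∘ H.e i) ∪
        (Finset.univ.image fun i => ψ ∘ H.f i)).card ≤
        (Finset.univ.image fun i => ψ ∘ H.e i).card +
          (Finset.univ.image fun i => ψ ∘ H.f i).card := Finset.card_union_le _ _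
    have h3 : (Finset.univ.image fun i => ψ ∘ H.e i).card ≤ Fintype.card κ :=
      Finset.card_image_le.trans (by simp)
    have h4 : (Finset.univ.image fun i => ψ ∘ H.f i).card ≤ Fintype.card κ :=
      Finset.card_image_le.trans (by simp)
    have h5 : ({u₀} : Finset (ι → FractionRing R)).card = 1 := Finset.card_singleton _
    omega
  have he : ∀ i, ψ ∘ H.e i ∈ Submodule.span (FractionRing R) (S : Set (ι → FractionRing R)) := by
    intro i
    apply Submodule.subset_span
    rw [hS]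
    simp
  have hf : ∀ i, ψ ∘ H.f i ∈ Submodule.span (FractionRing R) (S : Set (ι → FractionRing R)) := by
    intro i
    apply Submodule.subset_span
    rw [hS]
    simp
  have hu₀ : u₀ ∈ Submodule.span (FractionRing R) (S : Set (ι → FractionRing R)) := by
    apply Submodule.subset_span
    rw [hS]
    simp
  have hmem : ∀ x : ι → R,
      ψ ∘ x ∈ Submodule.span (FractionRing R) (S : Set (ι → FractionRing R)) := by
    intro x
    obtain ⟨t, ht⟩ := hcon x
    have hx : ψ ∘ x = ψ ∘ H.proj x + ∑ i, (ψ (Bf c x (H.f i)) • (ψ ∘ H.e i) +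
        ψ (Bf c x (H.e i)) • (ψ ∘ H.f i)) := by
      funext s
      have := congrFun (H.eq_proj_add x) s
      simp only [Pi.add_apply, Finset.sum_apply, Pi.smul_apply, Function.comp_apply,
        smul_eq_mul] at this ⊢
      exact (congrArg ψ this).trans (by simp only [map_add, map_sum, map_mul])
    rw [hx, ht]
    apply Submodule.add_mem
    · exact Submodule.smul_mem _ _ hu₀
    · apply Submodule.sum_mem
      intro i _
      exact Submodule.add_mem _ (Submodule.smul_mem _ _ (he i)) (Submodule.smul_mem _ _ (hf i))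
  have hspan : Submodule.span (FractionRing R) (S : Set (ι → FractionRing R)) = ⊤ := by
    rw [eq_top_iff, ← (Pi.basisFun (FractionRing R) ι).span_eq, Submodule.span_le]
    rintro _ ⟨s, rfl⟩
    rw [Pi.basisFun_apply]
    have : (Pi.single s (1 : FractionRing R) : ι → FractionRing R) =
        ψ ∘ (Pi.single s (1 : R) : ι → R) := by
      funext t
      simp [Pi.single_apply, apply_ite ψ]
    rw [this]
    exact hmem _
  have h1 := finrank_span_finset_le_card (R := FractionRing R) S
  rw [Set.finrank, hspan, finrank_top, Module.finrank_fintype_fun_eq_card] at h1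
  omega

include hc in
theorem exists_disc_ne_zero (hκ : 2 * Fintype.card κ + 2 ≤ Fintype.card ι) :
    ∃ x y : ι → R, Df c (H.proj x) (H.proj y) ≠ 0 := by
  by_contra hcon
  push Not at hcon
  have key : ∀ x, H.proj x ≠ 0 → Qf c (H.proj x) ≠ 0 ∧ (2 : R) ≠ 0 := by
    intro x hx
    obtain ⟨y, hy⟩ := exists_Bf_ne_zero c hc (H.proj x) hx
    have h1 : Bf c (H.proj x) (H.proj y) = Bf c (H.proj x) y :=
      H.Bf_proj_right (H.proj x) y (H.proj_e x) (H.proj_f x)
    have h2 := hcon x y
    rw [Df, h1] at h2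
    constructor
    · intro hq
      rw [hq] at h2
      apply hy
      have : Bf c (H.proj x) y ^ 2 = 0 := by linear_combination h2
      exact (pow_eq_zero_iff (by norm_num : (2 : ℕ) ≠ 0)).mp this
    · intro h2'
      apply hy
      have h4 : (4 : R) = 0 := by linear_combination (2 : R) * h2'
      have : Bf c (H.proj x) y ^ 2 = 0 := by
        linear_combination h2 + (Qf c (H.proj x) * Qf c (H.proj y)) * h4
      exact (pow_eq_zero_iff (by norm_num : (2 : ℕ) ≠ 0)).mp this
  obtain ⟨ψ, hψ⟩ : ∃ ψ : R →+* FractionRing R, ψ = algebraMap R (FractionRing R) := ⟨_, rfl⟩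
  have hinj : Function.Injective ψ := by
    rw [hψ]; exact IsFractionRing.injective R (FractionRing R)
  obtain ⟨x₁, hx₁⟩ := exists_not_mem_line c H hκ 0
  rw [← hψ] at hx₁
  have hu : H.proj x₁ ≠ 0 := by
    intro h
    apply hx₁ 0
    rw [h]
    funext t
    simp
  obtain ⟨x₂, hx₂⟩ := exists_not_mem_line c H hκ (ψ ∘ H.proj x₁)
  rw [← hψ] at hx₂
  obtain ⟨hQu, h2⟩ := key x₁ hu
  obtain ⟨x₃, hx₃⟩ : ∃ x₃, x₃ = Bf c (H.proj x₁) (H.proj x₁) • x₂ -
      Bf c (H.proj x₁) (H.proj x₂) • x₁ := ⟨_, rfl⟩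
  have hz : H.proj x₃ = Bf c (H.proj x₁) (H.proj x₁) • H.proj x₂ -
      Bf c (H.proj x₁) (H.proj x₂) • H.proj x₁ := by
    rw [hx₃, H.proj_sub, H.proj_smul, H.proj_smul]
  have hbuu : Bf c (H.proj x₁) (H.proj x₁) ≠ 0 := by
    rw [Bf_self]; exact mul_ne_zero h2 hQu
  have hz0 : H.proj x₃ ≠ 0 := by
    intro h0
    rw [hz, sub_eq_zero] at h0
    apply hx₂ (ψ (Bf c (H.proj x₁) (H.proj x₂)) / ψ (Bf c (H.proj x₁) (H.proj x₁)))
    have h3 : ψ (Bf c (H.proj x₁) (H.proj x₁)) • (ψ ∘ H.proj x₂) =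
        ψ (Bf c (H.proj x₁) (H.proj x₂)) • (ψ ∘ H.proj x₁) := by
      rw [← comp_smul, ← comp_smul, h0]
    have h4 : ψ (Bf c (H.proj x₁) (H.proj x₁)) ≠ 0 := (map_ne_zero_iff ψ hinj).mpr hbuu
    calc ψ ∘ H.proj x₂ = (ψ (Bf c (H.proj x₁) (H.proj x₁)))⁻¹ •
          (ψ (Bf c (H.proj x₁) (H.proj x₁)) • (ψ ∘ H.proj x₂)) := by
          rw [smul_smul, inv_mul_cancel₀ h4, one_smul]
      _ = (ψ (Bf c (H.proj x₁) (H.proj x₂)) / ψ (Bf c (H.proj x₁) (H.proj x₁))) •
          (ψ ∘ H.proj x₁) := by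
          rw [h3, smul_smul, div_eq_inv_mul]
  obtain ⟨hQz, _⟩ := key x₃ hz0
  have h5 := hcon x₁ x₃
  have h6 : Bf c (H.proj x₁) (H.proj x₃) = 0 := by
    rw [hz, Bf_sub_right, Bf_smul_right, Bf_smul_right]; ring
  rw [Df, h6] at h5
  have h7 : (4 : R) * (Qf c (H.proj x₁) * Qf c (H.proj x₃)) = 0 := by linear_combination -h5
  have h4 : (4 : R) ≠ 0 := by
    have : (4 : R) = 2 * 2 := by norm_num
    rw [this]; exact mul_ne_zero h2 h2
  exact (mul_ne_zero h4 (mul_ne_zero hQu hQz)) h7

end Domain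

end Groth.Agent.Lib.Helper6.QSplit
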