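import Mathlib
import Groth.Agent.Lib.Helper6.QSplit.QS2
import Groth.Agent.Lib.Helper6.EllJ.EJ1

/-!
# Étale-local splitting of non-degenerate quadratic forms of even rank (helper6)
-/

set_option autoImplicit false
set_option linter.unusedSectionVars false
set_option linter.unusedVariables false
set_option linter.unusedSimpArgs false
set_option linter.style.haveILetI false
set_option maxHeartbeats 800000
set_option synthInstance.maxHeartbeats 400000

universe u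

namespace Groth.Agent.Lib.Helper6.QSplit

open Matrix

section Ext

variable {A : Type u} [CommRing A] {ι : Type} [Fintype ι] [DecidableEq ι]

theorem exists_plane (c : Matrix ι ι A) (hc : IsUnit (c + cᵀ).det) {κ : Type} [Fintype κ]
    [DecidableEq κ] (H : Hyp c κ) (hκ : 2 * Fintype.card κ + 2 ≤ Fintype.card ι)
    (p : PrimeSpectrum A) :
    ∃ x y : ι → A, Qf c x ∉ p.asIdeal ∧ Df c x y ∉ p.asIdeal ∧
      (∀ i, Bf c x (H.e i) = 0) ∧ (∀ i, Bf c x (H.f i) = 0) ∧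
      (∀ i, Bf c y (H.e i) = 0) ∧ (∀ i, Bf c y (H.f i) = 0) := by
  obtain ⟨φ, hφ⟩ : ∃ φ : A →+* A ⧸ p.asIdeal, φ = Ideal.Quotient.mk p.asIdeal := ⟨_, rfl⟩
  have hφs : Function.Surjective φ := by rw [hφ]; exact Ideal.Quotient.mk_surjective
  have hker : ∀ a, φ a = 0 ↔ a ∈ p.asIdeal := by
    intro a; rw [hφ]; exact Ideal.Quotient.eq_zero_iff_mem
  have hdet : ((c.map φ) + (c.map φ)ᵀ).det ≠ 0 := by
    rw [polar_det_map]
    intro h
    exact p.isPrime.ne_top (Ideal.eq_top_of_isUnit_mem _ ((hker _).mp h) hc)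
  obtain ⟨xb, yb, hD⟩ := exists_disc_ne_zero (c.map φ) hdet (H.map φ) hκ
  obtain ⟨x₀, hx₀⟩ := hφs.comp_left xb
  obtain ⟨y₀, hy₀⟩ := hφs.comp_left yb
  have hx₀' : φ ∘ x₀ = xb := hx₀
  have hy₀' : φ ∘ y₀ = yb := hy₀
  rw [← hx₀', ← hy₀', Hyp.proj_map, Hyp.proj_map, Df_map] at hD
  have hD' : Df c (H.proj x₀) (H.proj y₀) ∉ p.asIdeal := fun h => hD ((hker _).mpr h)
  obtain ⟨x, hx⟩ : ∃ x, x = H.proj x₀ := ⟨_, rfl⟩
  obtain ⟨y, hy⟩ : ∃ y, y = H.proj y₀ := ⟨_, rfl⟩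
  rw [← hx, ← hy] at hD'
  have hxe : ∀ i, Bf c x (H.e i) = 0 := fun i => by rw [hx]; exact H.proj_e x₀ i
  have hxf : ∀ i, Bf c x (H.f i) = 0 := fun i => by rw [hx]; exact H.proj_f x₀ i
  have hye : ∀ i, Bf c y (H.e i) = 0 := fun i => by rw [hy]; exact H.proj_e y₀ i
  have hyf : ∀ i, Bf c y (H.f i) = 0 := fun i => by rw [hy]; exact H.proj_f y₀ i
  by_cases h1 : Qf c x ∈ p.asIdeal
  · by_cases h2 : Qf c y ∈ p.asIdeal
    · refine ⟨x + y, y, ?_, ?_, ?_, ?_, hye, hyf⟩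
      · rw [Qf_add]
        intro h
        have hb : Bf c x y ∈ p.asIdeal := by
          have := p.asIdeal.sub_mem h (p.asIdeal.add_mem h1 h2)
          simpa using this
        apply hD'
        rw [Df]
        exact p.asIdeal.sub_mem (Ideal.pow_mem_of_mem _ hb 2 (by norm_num))
          (Ideal.mul_mem_left _ _ h2)
      · rw [Df_add_left]; exact hD'
      · intro i; rw [Bf_add_left, hxe, hye, add_zero]
      · intro i; rw [Bf_add_left, hxf, hyf, add_zero]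
    · refine ⟨y, x, h2, ?_, hye, hyf, hxe, hxf⟩
      rw [Df_comm]; exact hD'
  · exact ⟨x, y, h1, hD', hxe, hxf, hye, hyf⟩

theorem exists_ext (c : Matrix ι ι A) (hc : IsUnit (c + cᵀ).det) {κ : Type} [Fintype κ]
    [DecidableEq κ] (H : Hyp c κ) (hκ : 2 * Fintype.card κ + 2 ≤ Fintype.card ι)
    (p : PrimeSpectrum A) :
    ∃ (B : Type u) (_ : CommRing B) (_ : Algebra A B), Algebra.Etale A B ∧
      (∃ q : PrimeSpectrum B, q.asIdeal.comap (algebraMap A B) = p.asIdeal) ∧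
      Nonempty (Hyp (c.map (algebraMap A B)) (Option κ)) := by
  obtain ⟨x, y, hQx, hD, hxe, hxf, hye, hyf⟩ := exists_plane c hc H hκ p
  obtain ⟨s, hs⟩ : ∃ s, s = Qf c x * Df c x y := ⟨_, rfl⟩
  have hsp : s ∉ p.asIdeal := by
    rw [hs]; exact fun h => (p.isPrime.mem_or_mem h).elim hQx hD
  obtain ⟨ψ, hψ⟩ : ∃ ψ : A →+* Localization.Away s, ψ = algebraMap A (Localization.Away s) :=
    ⟨_, rfl⟩
  have hsu : IsUnit (ψ s) := by rw [hψ]; exact IsLocalization.Away.algebraMap_isUnit s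
  have hsmul : ψ s = ψ (Qf c x) * ψ (Df c x y) := by
    have := congrArg ψ hs
    rw [this, map_mul]
  have hau : IsUnit (ψ (Qf c x)) := by
    rw [hsmul] at hsu; exact isUnit_of_mul_isUnit_left hsu
  have hDu : IsUnit (ψ (Df c x y)) := by
    rw [hsmul] at hsu; exact isUnit_of_mul_isUnit_right hsu
  obtain ⟨ainv, hainv⟩ := hau.exists_right_inv
  obtain ⟨Dinv, hDinv⟩ := hDu.exists_right_inv
  obtain ⟨a₁, ha₁⟩ : ∃ a₁, a₁ = ψ (Qf c x) := ⟨_, rfl⟩
  obtain ⟨b₁, hb₁⟩ : ∃ b₁, b₁ = ψ (Bf c x y) := ⟨_, rfl⟩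
  obtain ⟨g₁, hg₁⟩ : ∃ g₁, g₁ = ψ (Qf c y) := ⟨_, rfl⟩
  have hDf : ψ (Df c x y) = b₁ ^ 2 - 4 * a₁ * g₁ := by
    rw [Df, ha₁, hb₁, hg₁]; simp only [map_sub, map_pow, map_mul, map_ofNat]
  rw [← ha₁] at hainv
  rw [hDf] at hDinv
  have hd : (a₁ ^ 2 * Dinv) * ((b₁ * ainv) ^ 2 + 4 * (-(g₁ * ainv))) = 1 := by
    linear_combination hDinv + (Dinv * b₁ ^ 2 * (1 + a₁ * ainv) - 4 * a₁ * Dinv * g₁) * hainv
  obtain ⟨B, _, _, hBet, hBsurj, z, hz⟩ :=
    EllJ.exists_cover (b₁ * ainv) (-(g₁ * ainv)) (a₁ ^ 2 * Dinv) hd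
  letI : Algebra A B :=
    ((algebraMap (Localization.Away s) B).comp (algebraMap A (Localization.Away s))).toAlgebra
  haveI : IsScalarTower A (Localization.Away s) B := IsScalarTower.of_algebraMap_eq (fun _ => rfl)
  haveI : Algebra.Etale A (Localization.Away s) := Algebra.Etale.of_isLocalizationAway s
  haveI : Algebra.Etale A B := Algebra.Etale.comp A (Localization.Away s) B
  refine ⟨B, inferInstance, inferInstance, inferInstance, ?_, ?_⟩
  · have hp : p ∈ Set.range (PrimeSpectrum.comap (algebraMap A (Localization.Away s))) := by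
      rw [PrimeSpectrum.localization_away_comap_range (Localization.Away s) s]
      exact hsp
    obtain ⟨p₁, hp₁⟩ := hp
    obtain ⟨q, hq⟩ := hBsurj p₁
    refine ⟨q, ?_⟩
    rw [IsScalarTower.algebraMap_eq A (Localization.Away s) B, ← Ideal.comap_comap]
    have h1 : q.asIdeal.comap (algebraMap (Localization.Away s) B) = p₁.asIdeal :=
      congrArg PrimeSpectrum.asIdeal hq
    rw [h1]
    exact congrArg PrimeSpectrum.asIdeal hp₁
  · obtain ⟨θ, hθ⟩ : ∃ θ : A →+* B, θ = algebraMap A B := ⟨_, rfl⟩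
    obtain ⟨ψ₂, hψ₂⟩ : ∃ ψ₂ : Localization.Away s →+* B,
        ψ₂ = algebraMap (Localization.Away s) B := ⟨_, rfl⟩
    have hθψ : ∀ r, θ r = ψ₂ (ψ r) := by
      intro r; rw [hθ, hψ₂, hψ]; rfl
    rw [← hθ]
    rw [← hψ₂] at hz
    have hQx : Qf (c.map θ) (θ ∘ x) = ψ₂ a₁ := by rw [Qf_map, hθψ, ha₁]
    have hBxy : Bf (c.map θ) (θ ∘ x) (θ ∘ y) = ψ₂ b₁ := by rw [Bf_map, hθψ, hb₁]
    have hQy : Qf (c.map θ) (θ ∘ y) = ψ₂ g₁ := by rw [Qf_map, hθψ, hg₁]
    have haiB : ψ₂ a₁ * ψ₂ ainv = 1 := by rw [← map_mul, hainv, map_one]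
    have hDB : (ψ₂ b₁ ^ 2 - 4 * ψ₂ a₁ * ψ₂ g₁) * ψ₂ Dinv = 1 := by
      have := congrArg ψ₂ hDinv
      simpa only [map_sub, map_pow, map_mul, map_ofNat, map_one] using this
    have hz' : z ^ 2 + ψ₂ b₁ * ψ₂ ainv * z = -(ψ₂ g₁ * ψ₂ ainv) := by
      simpa only [map_mul, map_neg] using hz
    have hzz : ψ₂ a₁ * z ^ 2 + ψ₂ b₁ * z + ψ₂ g₁ = 0 := by
      linear_combination ψ₂ a₁ * hz' - (ψ₂ b₁ * z + ψ₂ g₁) * haiB
    obtain ⟨u', hu'⟩ : ∃ u', u' = (2 * ψ₂ a₁ * z + ψ₂ b₁) * ψ₂ Dinv := ⟨_, rfl⟩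
    have hu : u' * (2 * ψ₂ a₁ * z + ψ₂ b₁) = 1 := by
      rw [hu']
      linear_combination hDB + (4 * ψ₂ a₁ * ψ₂ Dinv) * hzz
    have hz'' : Qf (c.map θ) (θ ∘ x) * z ^ 2 + Bf (c.map θ) (θ ∘ x) (θ ∘ y) * z +
        Qf (c.map θ) (θ ∘ y) = 0 := by rw [hQx, hBxy, hQy]; exact hzz
    have hu'' : u' * (2 * Qf (c.map θ) (θ ∘ x) * z + Bf (c.map θ) (θ ∘ x) (θ ∘ y)) = 1 := by
      rw [hQx, hBxy]; exact hu
    obtain ⟨s₁, s₂, t₁, t₂, he, hf, hef⟩ := exists_pair (c.map θ) (θ ∘ x) (θ ∘ y) z u' hz'' hu''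
    have horth : ∀ (r₁ r₂ : B) (v : ι → A), Bf c x v = 0 → Bf c y v = 0 →
        Bf (c.map θ) (r₁ • (θ ∘ x) + r₂ • (θ ∘ y)) (θ ∘ v) = 0 := by
      intro r₁ r₂ v h1 h2
      rw [Bf_add_left, Bf_smul_left, Bf_smul_left, Bf_map, Bf_map, h1, h2, map_zero, mul_zero,
        mul_zero, add_zero]
    exact ⟨(H.map θ).ext1 _ _ he hf hef (fun i => horth _ _ _ (hxe i) (hye i))
      (fun i => horth _ _ _ (hxf i) (hyf i)) (fun i => horth _ _ _ (hxe i) (hye i))
      (fun i => horth _ _ _ (hxf i) (hyf i))⟩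

end Ext

section Main

theorem exists_hyp (ι : Type) [Fintype ι] [DecidableEq ι] :
    ∀ k : ℕ, 2 * k ≤ Fintype.card ι →
    ∀ (A : Type u) [CommRing A] (c : Matrix ι ι A) (hc : IsUnit (c + cᵀ).det)
      (p : PrimeSpectrum A),
    ∃ (B : Type u) (_ : CommRing B) (_ : Algebra A B), Algebra.Etale A B ∧
      (∃ q : PrimeSpectrum B, q.asIdeal.comap (algebraMap A B) = p.asIdeal) ∧
      Nonempty (Hyp (c.map (algebraMap A B)) (Fin k)) := by
  intro k
  induction k with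
  | zero =>
    intro _ A _ c hc p
    refine ⟨A, inferInstance, inferInstance, inferInstance, ⟨p, ?_⟩, ⟨Hyp.empty _⟩⟩
    simp
  | succ k ih =>
    intro hk A _ c hc p
    obtain ⟨B, _, _, hBet, ⟨q, hq⟩, ⟨H⟩⟩ := ih (by omega) A c hc p
    have hcB : IsUnit ((c.map (algebraMap A B)) + (c.map (algebraMap A B))ᵀ).det := by
      rw [polar_det_map]; exact hc.map _
    have hκ : 2 * Fintype.card (Fin k) + 2 ≤ Fintype.card ι := by
      rw [Fintype.card_fin]; omega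
    obtain ⟨B', _, _, hB'et, ⟨q', hq'⟩, ⟨H'⟩⟩ :=
      exists_ext (c.map (algebraMap A B)) hcB H hκ q
    letI : Algebra A B' := ((algebraMap B B').comp (algebraMap A B)).toAlgebra
    haveI : IsScalarTower A B B' := IsScalarTower.of_algebraMap_eq (fun _ => rfl)
    haveI : Algebra.Etale A B' := Algebra.Etale.comp A B B'
    refine ⟨B', inferInstance, inferInstance, inferInstance, ⟨q', ?_⟩, ⟨?_⟩⟩
    · rw [IsScalarTower.algebraMap_eq A B B', ← Ideal.comap_comap, hq', hq]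
    · have hmat : (c.map (algebraMap A B)).map (algebraMap B B') = c.map (algebraMap A B') := by
        ext i j
        rfl
      exact (H'.congr hmat).reindex (finSuccEquiv k)

theorem exists_cover_split {A : Type u} [CommRing A] (m : ℕ)
    (c : Matrix (Fin m ⊕ Fin m) (Fin m ⊕ Fin m) A) (hc : IsUnit (c + cᵀ).det) :
    ∃ (n : ℕ) (B : Fin n → Type u) (_ : ∀ t, CommRing (B t)) (_ : ∀ t, Algebra A (B t)),
      (∀ t, Algebra.Etale A (B t)) ∧
      (∀ p : PrimeSpectrum A, ∃ (t : Fin n) (q : PrimeSpectrum (B t)),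
        q.asIdeal.comap (algebraMap A (B t)) = p.asIdeal) ∧
      ∀ t, ∃ g : Matrix (Fin m ⊕ Fin m) (Fin m ⊕ Fin m) (B t), IsUnit g.det ∧
        ∀ x : Fin m ⊕ Fin m → B t, Qf (c.map (algebraMap A (B t))) (g *ᵥ x) =
          ∑ j : Fin m, x (Sum.inl j) * x (Sum.inr j) := by
  have hcard : 2 * m ≤ Fintype.card (Fin m ⊕ Fin m) := by
    rw [Fintype.card_sum, Fintype.card_fin]; omega
  have key : ∀ p : PrimeSpectrum A, ∃ (B : Type u) (_ : CommRing B) (_ : Algebra A B),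
      Algebra.Etale A B ∧
      (∃ q : PrimeSpectrum B, q.asIdeal.comap (algebraMap A B) = p.asIdeal) ∧
      Nonempty (Hyp (c.map (algebraMap A B)) (Fin m)) :=
    fun p => exists_hyp (Fin m ⊕ Fin m) m hcard A c hc p
  choose B iCR iAlg hEt hq hH using key
  letI := iCR
  letI := iAlg
  have hopen : ∀ p, IsOpen (Set.range (PrimeSpectrum.comap (algebraMap A (B p)))) := by
    intro p
    haveI := hEt p
    exact (PrimeSpectrum.isOpenMap_comap_of_hasGoingDown_of_finitePresentation).isOpen_range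
  have hmem : ∀ p, p ∈ Set.range (PrimeSpectrum.comap (algebraMap A (B p))) := by
    intro p
    obtain ⟨q, hq'⟩ := hq p
    exact ⟨q, PrimeSpectrum.ext hq'⟩
  obtain ⟨T, hT⟩ := isCompact_univ.elim_finite_subcover
    (fun p => Set.range (PrimeSpectrum.comap (algebraMap A (B p)))) hopen
    (fun p _ => Set.mem_iUnion.mpr ⟨p, hmem p⟩)
  refine ⟨T.card, fun t => B (T.equivFin.symm t).1, fun t => iCR _, fun t => iAlg _,
    fun t => hEt _, ?_, ?_⟩
  · intro p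
    have := hT (Set.mem_univ p)
    simp only [Set.mem_iUnion] at this
    obtain ⟨p', hp'T, q, hq'⟩ := this
    obtain ⟨t, ht⟩ := T.equivFin.symm.surjective ⟨p', hp'T⟩
    have hp'eq : (T.equivFin.symm t).1 = p' := congrArg Subtype.val ht
    subst hp'eq
    exact ⟨t, q, congrArg PrimeSpectrum.asIdeal hq'⟩
  · intro t
    obtain ⟨H⟩ := hH (T.equivFin.symm t).1
    exact ⟨gMat _ H, isUnit_det_gMat _ H, Qf_gMat _ H⟩

end Main

end Groth.Agent.Lib.Helper6.QSplit
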